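import Cfsg.Agent.Spor.TiaA1.D0

set_option autoImplicit false
set_option maxRecDepth 100000000
set_option Elab.async false

namespace Cfsg.Agent.Spor.TiaA1

theorem ok0 : Net.okb 1 n0 = true := by decide +kernel

theorem ok1 : Net.okb 1 n1 = true := by decide +kernel

theorem ok2 : Net.okb 1 n2 = true := by decide +kernel

theorem rel0 : T.rel 1 [1, 1] 0 1 = true := by decide +kernel

theorem rel1 : T.rel 1 [2, 3, 2, 5, 5, 4, 3, 2, 5, 5, 4, 3, 2, 5, 5, 4, 3, 2, 5, 5, 4, 4] 0 1 = true := by decide +kernel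

theorem rel2 : T.rel 1 [2, 3, 2, 5, 5, 4, 3, 2, 5, 5, 4, 4, 3, 3, 4, 5, 2, 3, 2, 5, 5, 4, 3, 3, 4, 5, 4, 3, 2, 5, 5, 2, 3, 2, 5, 5, 4, 3, 3, 4, 5, 4, 3, 2, 5, 2, 5, 5] 0 1 = true := by decide +kernel

theorem rel3 : T.rel 1 [2, 3, 2, 5, 5, 4, 3, 2, 5, 5, 4, 4, 3, 3, 4, 5, 2, 3, 2, 5, 5, 4, 3, 3, 4, 3, 4, 5, 2, 2, 3, 2, 5, 5, 4, 3, 3, 4, 3, 4, 5, 2, 3, 2, 5, 5] 0 1 = true := by decide +kernel

theorem rel4 : T.rel 1 [2, 3, 2, 5, 5, 4, 4, 3, 3, 4, 5, 4, 3, 2, 5, 2, 5, 5, 2, 2, 3, 3, 4, 5, 4, 3, 3, 4, 5, 2, 3, 2, 5, 5, 4, 3, 3, 4, 3, 4, 5, 2, 3, 2, 5, 5, 2, 3, 3, 4, 5, 4, 3, 2, 5, 5] 0 1 = true := by decide +kernel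

theorem rel5 : T.rel 1 [3, 3, 4, 5, 2, 3, 2, 5, 5, 4, 3, 3, 4, 5, 2, 3, 2, 5, 5, 4, 3, 3, 4, 5, 2, 3, 2, 5, 5, 4, 3, 3, 4, 5, 2, 3, 2, 5, 5, 4] 0 1 = true := by decide +kernel

theorem rel6 : T.rel 1 [2, 3, 2, 5, 5, 4, 3, 3, 4, 5, 4, 4, 3, 2, 5, 5, 2, 3, 2, 5, 5, 2, 3, 3, 4, 5, 4, 3, 3, 4, 3, 4, 5, 2, 3, 2, 5, 5] 0 1 = true := by decide +kernel

theorem rel7 : T.rel 1 [2, 3, 2, 5, 5, 4, 4, 3, 3, 4, 5, 2, 3, 2, 5, 5, 4, 3, 3, 4, 3, 4, 5, 2, 3, 2, 5, 5, 2, 3, 2, 5, 5, 4, 4, 3, 3, 4, 5, 2, 3, 2, 5, 5, 4, 3, 3, 4, 3, 4, 5, 2, 3, 2, 5, 5] 0 1 = true := by decide +kernel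

theorem rel8 : T.rel 1 [3, 3, 4, 5, 4, 3, 2, 5, 5, 4, 3, 2, 5, 5, 4, 3, 2, 5, 5, 4, 3, 2, 5, 2, 5, 5] 0 1 = true := by decide +kernel

theorem rel9 : T.rel 1 [4, 3, 3, 4, 5, 4, 4, 3, 3, 4, 5, 2, 3, 2, 5, 5, 4, 3, 3, 4, 5, 4, 3, 2, 5, 5, 2, 3, 2, 5, 5, 4] 0 1 = true := by decide +kernel

theorem rel10 : T.rel 1 [2, 2, 2, 2] 0 1 = true := by decide +kernel

theorem rel11 : T.rel 1 [3, 3, 4, 3, 4, 3, 4, 3, 4, 5] 0 1 = true := by decide +kernel

theorem rel12 : T.rel 1 [3, 4, 5, 2, 3, 3, 3, 4, 5, 4, 4, 3, 3, 4, 5] 0 1 = true := by decide +kernel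

theorem rel13 : T.rel 1 [3, 2, 2, 5, 2, 3, 4, 5, 4, 4, 3, 2, 5, 5, 4] 0 1 = true := by decide +kernel

theorem rel14 : T.rel 1 [3, 3, 3, 3, 3] 0 1 = true := by decide +kernel

theorem rel15 : T.rel 1 [4, 3, 4, 3, 4, 3, 4, 3] 0 1 = true := by decide +kernel

theorem rel16 : T.rel 1 [2, 5, 4, 5, 5, 2, 5, 4, 5, 5] 0 1 = true := by decide +kernel

theorem rel17 : T.rel 1 [3, 2, 3, 2, 3, 2, 3, 2] 0 1 = true := by decide +kernel

theorem rel18 : T.rel 1 [1, 5, 1, 2, 3, 4, 3, 4, 4, 5, 1, 3, 1, 5, 2, 5, 4, 5] 0 1 = true := by decide +kernel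

theorem rel19 : T.rel 1 [1, 3, 1, 2, 1, 5, 1, 4, 4, 3, 3, 2, 5, 4, 4, 5, 5, 4] 0 1 = true := by decide +kernel

theorem rel20 : T.rel 1 [1, 5, 1, 2, 2, 1, 3, 1, 5, 5, 4, 3, 3, 2, 5, 5] 0 1 = true := by decide +kernel

theorem rel21 : T.rel 1 [1, 3, 1, 5, 1, 3, 2, 3, 4, 3, 1, 3, 1, 5, 1, 5, 2, 5, 4, 5] 0 1 = true := by decide +kernel

theorem rel22 : T.rel 1 [1, 2, 1, 3, 4, 5, 2, 3, 2, 5, 5, 4, 3] 0 1 = true := by decide +kernel

theorem rel23 : T.rel 1 [1, 3, 2, 5, 5, 1, 5, 5, 4, 5, 5, 4, 3, 3, 4, 3] 0 1 = true := by decide +kernel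

theorem rel24 : T.rel 1 [1, 3, 1, 3, 1, 3, 1, 3, 1, 3, 1, 3, 1, 3, 1, 3] 0 1 = true := by decide +kernel

theorem rel25 : T.rel 1 [1, 3, 1, 3, 1, 5, 1, 2, 3, 4, 1, 5, 1, 5, 1, 3, 1, 5, 1, 3, 4, 4, 3, 3] 0 1 = true := by decide +kernel

theorem rel26 : T.rel 1 [4, 1, 2, 1] 0 1 = true := by decide +kernel

theorem rel27 : T.rel 1 [5, 1, 3, 1] 0 1 = true := by decide +kernel

theorem rel28 : T.rel 1 [5, 4, 3, 2] 0 1 = true := by decide +kernel

theorem hcov : T.treeCov (ones 1) L 1 = true := by decide +kernel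

theorem hg : lall (fun z => band (memL L z) (band (sub (ones 1) (T.let z).cl) (T.closed (ones 1) z))) gs = true := by decide +kernel

theorem hivk : ivOk (2 * 1) EX IV = true := by decide +kernel

theorem hrt : RT.ok (2 * 1) EX RL = true := by decide +kernel

theorem hdefs : defs F 15 = true := by decide +kernel

noncomputable def st0_l : List Nat := [nat_lit 0xa0000100000003, nat_lit 0xc0000100001403, nat_lit 0xe0000100002403, nat_lit 0x30000040000500010000030000160001f00000800024000440000e000068000840d, nat_lit 0x1200008402, nat_lit 0xd0001280001003, nat_lit 0xa0001480000003, nat_lit 0x60001400000803, nat_lit 0xe0001480002403, nat_lit 0x1500007c02, nat_lit 0x1600001802, nat_lit 0x1700008c02, nat_lit 0x20000c80000a00026000020000140004c00004000048000d00006800008000198000240e, nat_lit 0x27000020000c80006400005000130000100001200035000040000cc00066000090001a0000200f, nat_lit 0x6c00039000028000e404, nat_lit 0x1d00002002,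 nat_lit 0x10001e00000003, nat_lit 0x7a000000001f0000040007800000000180000f800062000010001e0000000007e000010001e8000000007e000010001e8000c8000640003d0001e80000018, nat_lit 0x80010402, nat_lit 0x100002180004403, nat_lit 0x120002280004c03, nat_lit 0x180000900005403, nat_lit 0x1a0000900005c03, nat_lit 0x600002400015000240000600008c000120002200005c000940001a0000c8001240d, nat_lit 0x190002680005003, nat_lit 0x130002780004003, nat_lit 0x880014402, nat_lit 0x1c0002980007403, nat_lit 0x1c00029000074000aa000550000e00014c0003a000540000e000148000a40001d0002a8000700f, nat_lit 0xe80015c02]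
theorem st0 : band (steps F IV RT base st0_l 15) (Nat.beq (Nat.add 15 (llen st0_l)) 45) = true := by decide +kernel

theorem ep0a : T.treePath [] (Nat.shiftLeft 1 0) 1 = true := by decide +kernel

theorem ep0b : T.treePath [] (Nat.shiftLeft 1 0) 1 = true := by decide +kernel

theorem ep0c : band (lall (fun z => Nat.ble z 255) ([] ++ 1 :: [])) (concl F IV 45 0x10801 (encA ([] ++ 1 :: []) 0)) = true := by decide +kernel

theorem ep0d : band (Rule.ok (2 * 1) EX [] ⟨lapp [] [], [], 0, false⟩) (band (lall (memL L) []) (lall (memL L) [])) = true := by decide +kernel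

theorem cov1 : T.cover 1 [(Nat.shiftLeft 1 0)] = true := by decide +kernel

theorem tl1 : Nat.beq (T.let 1).tt 0 = true := by decide +kernel

theorem ep1a : T.treePath [] (Nat.shiftLeft 1 0) 1 = true := by decide +kernel

theorem ep1b : T.treePath [] (Nat.shiftLeft 1 0) 1 = true := by decide +kernel

theorem ep1c : band (lall (fun z => Nat.ble z 255) ([] ++ 2 :: [])) (concl F IV 45 0x14801 (encA ([] ++ 2 :: []) 0)) = true := by decide +kernel

theorem ep1d : band (Rule.ok (2 * 1) EX [] ⟨lapp [] [], [], 0, false⟩) (band (lall (memL L) []) (lall (memL L) [])) = true := by decide +kernel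

theorem cov2 : T.cover 2 [(Nat.shiftLeft 1 0)] = true := by decide +kernel

theorem tl2 : Nat.beq (T.let 2).tt 0 = true := by decide +kernel

theorem ep2a : T.treePath [] (Nat.shiftLeft 1 0) 1 = true := by decide +kernel

theorem ep2b : T.treePath [] (Nat.shiftLeft 1 0) 1 = true := by decide +kernel

theorem ep2c : band (lall (fun z => Nat.ble z 255) ([] ++ 3 :: [])) (concl F IV 45 0x16001 (encA ([] ++ 3 :: []) 0)) = true := by decide +kernel

theorem ep2d : band (Rule.ok (2 * 1) EX [] ⟨lapp [] [], [], 0, false⟩) (band (lall (memL L) []) (lall (memL L) [])) = true := by decide +kernel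

theorem cov3 : T.cover 3 [(Nat.shiftLeft 1 0)] = true := by decide +kernel

theorem tl3 : Nat.beq (T.let 3).tt 0 = true := by decide +kernel

theorem rot4_1 : T.rot 4 [1, 2, 1] (sel (ones 1) ip4 1) = true := by decide +kernel

theorem rot4_1r : band (Rule.ok (2 * 1) EX RL ⟨4 :: [1, 2, 1], [], 25, true⟩) (lall (memL L) [1, 2, 1]) = true := by decide +kernel

theorem cov4 : T.cover 4 [(sel (ones 1) ip4 1)] = true := by decide +kernel

theorem tl4 : Nat.beq (T.let 4).tt 0 = true := by decide +kernel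

theorem rot5_1 : T.rot 5 [1, 3, 1] (sel (ones 1) ip5 1) = true := by decide +kernel

theorem rot5_1r : band (Rule.ok (2 * 1) EX RL ⟨5 :: [1, 3, 1], [], 26, true⟩) (lall (memL L) [1, 3, 1]) = true := by decide +kernel

theorem cov5 : T.cover 5 [(sel (ones 1) ip5 1)] = true := by decide +kernel

theorem tl5 : Nat.beq (T.let 5).tt 0 = true := by decide +kernel

end Cfsg.Agent.Spor.TiaA1
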