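import Cfsg.Agent.Spor.Chk

set_option autoImplicit false
set_option maxRecDepth 100000000
set_option Elab.async false
noncomputable section

namespace Cfsg.Agent.Spor.TiaA1

def n0 : Net := Net.nil

def n1 : Net := Net.nil

def n2 : Net := Net.nil

def ip1 : List Nat := []
def l1 : Let := ⟨0, false, 0x1, 0x0, [0x0]⟩

def ip2 : List Nat := []
def l2 : Let := ⟨1, false, 0x1, 0x0, [0x0]⟩

def ip3 : List Nat := []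
def l3 : Let := ⟨2, false, 0x1, 0x0, [0x0]⟩

def ip4 : List Nat := [0x1]
def l4 : Let := ⟨1, true, 0x1, 0x0, [0x1]⟩

def ip5 : List Nat := [0x1]
def l5 : Let := ⟨2, true, 0x1, 0x0, [0x1]⟩

def F : Nat := nat_lit 0x30000000000000000f0000f020000f00000020000000000000000900009000000a0000b000000d0000c040000e0000b040000d0000a010000a0000901000090000001000000000000000010000005000000000103000010000100000050000100000030000503000030000504000050000102000010000004000000000500000080000100000040000000000060000100000020000304000030000300000070000504000080000304000070000004000060000f03000000000e050000a0000d030000a0000c05000090000b03000090000a0200009000090200000000080500002000070300002000060100002000050500001000040400001000030300001000020200001000010100000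

def rt0_8 : RTree := RTree.node 0x503 ⟨[5, 3], [], 28, false⟩ (RTree.node 0x305 ⟨[3, 5], [], 28, false⟩ (RTree.node 0x204 ⟨[2, 4], [], 28, false⟩ (RTree.node 0x101 ⟨[1, 1], [], 28, false⟩ (RTree.leaf) (RTree.leaf)) (RTree.leaf)) (RTree.node 0x402 ⟨[4, 2], [], 28, false⟩ (RTree.leaf) (RTree.leaf))) (RTree.node 0x2050403 ⟨[2, 5, 4, 3], [2], 27, true⟩ (RTree.node 0x1040102 ⟨[1, 4, 1, 2], [], 25, false⟩ (RTree.leaf) (RTree.leaf)) (RTree.node 0x4010201 ⟨[4, 1, 2, 1], [], 25, true⟩ (RTree.leaf) (RTree.leaf)))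
def rt0_16 : RTree := RTree.node 0x4030205 ⟨[4, 3, 2, 5], [4], 27, true⟩ (rt0_8) (RTree.node 0x30304050404030304050304050203 ⟨[3, 3, 4, 5, 4, 4, 3, 3, 4, 5, 3, 4, 5, 2, 3], [5, 2, 4, 3, 5], 11, true⟩ (RTree.node 0x5010301 ⟨[5, 1, 3, 1], [], 26, true⟩ (RTree.node 0x4050203 ⟨[4, 5, 2, 3], [], 27, false⟩ (RTree.leaf) (RTree.leaf)) (RTree.node 0x2050504030102010304050203 ⟨[2, 5, 5, 4, 3, 1, 2, 1, 3, 4, 5, 2, 3], [4, 3, 5, 5, 2], 21, true⟩ (RTree.leaf) (RTree.leaf))) (RTree.node 0x50403040405020303040502020302 ⟨[5, 4, 3, 4, 4, 5, 2, 3, 3, 4, 5, 2, 2, 3, 2], [5, 3, 3, 4, 3, 5], 12, false⟩ (RTree.node 0x30405020203020504030404050203 ⟨[3, 4, 5, 2, 2, 3, 2, 5, 4, 3, 4, 4, 5, 2, 3], [3, 5], 12, false⟩ (RTree.leaf) (RTree.leaf)) (RTree.node 0x10505020205010301050103010301020504010301050105 ⟨[1,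 5, 5, 2, 2, 5, 1, 3, 1, 5, 1, 3, 1, 3, 1, 2, 5, 4, 1, 3, 1, 5, 1, 5], [0], 24, false⟩ (RTree.leaf) (RTree.leaf))))
def RT : RTree := rt0_16

def NT : List Net := [n0, n1, n2]
def LT : List Let := [⟨0, false, 0, 0, []⟩, l1, l2, l3, l4, l5]
def T : Tab := ⟨NT, LT⟩
def EX : List (List Nat) := [[], [0], [2], [4], [3], [5]]
def RL : List (List Nat) := [[3, 3, 5, 5, 2, 4, 3, 5, 5, 2, 4, 3, 5, 5, 2, 4, 3, 5, 5, 2, 4, 2], [5, 5, 2, 5, 2, 4, 3, 5, 3, 4, 4, 3, 5, 5, 2, 4, 2, 5, 5, 2, 4, 3, 5, 3, 4, 4, 3, 5, 5, 2, 4, 2, 5, 3, 4, 4, 3, 3, 5, 5, 2, 4, 3, 5, 5, 2, 4, 2], [5, 5, 2, 4, 2, 5, 3, 4, 3, 4, 4, 3, 5, 5, 2, 4, 2, 2, 5, 3, 4, 3, 4, 4, 3, 5, 5, 2, 4, 2, 5, 3, 4, 4, 3, 3, 5, 5, 2, 4, 3, 5, 5, 2, 4, 2], [5, 5, 2, 4, 3, 5, 3, 4, 4, 2, 5, 5, 2, 4, 2, 5, 3, 4, 3, 4, 4, 3, 5, 5, 2, 4, 2, 5, 3, 4,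 4, 3, 5, 3, 4, 4, 2, 2, 5, 5, 2, 5, 2, 4, 3, 5, 3, 4, 4, 3, 3, 5, 5, 2, 4, 2], [3, 5, 5, 2, 4, 2, 5, 3, 4, 4, 3, 5, 5, 2, 4, 2, 5, 3, 4, 4, 3, 5, 5, 2, 4, 2, 5, 3, 4, 4, 3, 5, 5, 2, 4, 2, 5, 3, 4, 4], [5, 5, 2, 4, 2, 5, 3, 4, 3, 4, 4, 3, 5, 3, 4, 4, 2, 5, 5, 2, 4, 2, 5, 5, 2, 4, 3, 3, 5, 3, 4, 4, 3, 5, 5, 2, 4, 2], [5, 5, 2, 4, 2, 5, 3, 4, 3, 4, 4, 3, 5, 5, 2, 4, 2, 5, 3, 4, 4, 3, 3, 5, 5, 2, 4, 2, 5, 5, 2, 4, 2, 5, 3, 4, 3, 4, 4, 3, 5, 5, 2, 4, 2, 5, 3, 4, 4, 3, 3, 5, 5, 2, 4, 2], [5, 5, 2, 5, 2, 4, 3, 5, 5, 2, 4, 3, 5, 5, 2, 4, 3, 5, 5, 2, 4, 3, 5, 3, 4, 4], [3, 5, 5, 2, 4, 2, 5, 5, 2, 4, 3, 5, 3, 4, 4, 3, 5, 5, 2, 4, 2, 5, 3, 4, 4, 3, 3, 5, 3, 4, 4, 3], [2, 2, 2, 2], [5, 3, 4, 3, 4, 3, 4, 3, 4, 4], [5, 3, 4, 4, 3, 3, 5, 3, 4, 4, 4, 2, 5, 3, 4], [3, 5, 5, 2, 4, 3, 3, 5, 3, 4, 2, 5,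 2, 2, 4], [4, 4, 4, 4, 4], [4, 3, 4, 3, 4, 3, 4, 3], [5, 5, 3, 5, 2, 5, 5, 3, 5, 2], [2, 4, 2, 4, 2, 4, 2, 4], [5, 3, 5, 2, 5, 0, 4, 0, 5, 3, 3, 4, 3, 4, 2, 0, 5, 0], [3, 5, 5, 3, 3, 5, 2, 4, 4, 3, 3, 0, 5, 0, 2, 0, 4, 0], [5, 5, 2, 4, 4, 3, 5, 5, 0, 4, 0, 2, 2, 0, 5, 0], [5, 3, 5, 2, 5, 0, 5, 0, 4, 0, 4, 3, 4, 2, 4, 0, 5, 0, 4, 0], [4, 3, 5, 5, 2, 4, 2, 5, 3, 4, 0, 2, 0], [4, 3, 4, 4, 3, 5, 5, 3, 5, 5, 0, 5, 5, 2, 4, 0], [4, 0, 4, 0, 4, 0, 4, 0, 4, 0, 4, 0, 4, 0, 4, 0], [4, 4, 3, 3, 4, 0, 5, 0, 4, 0, 5, 0, 5, 0, 3, 4, 2, 0, 5, 0, 4, 0, 4, 0], [0, 2, 0, 3], [0, 4, 0, 5], [2, 4, 3, 5]]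
def XL : List (List Nat) := []
def BW : List (List Nat) := []
def IV : Nat := 0x30205040100
def L : List Nat := [1, 2, 3, 4, 5]
def gs : List Nat := [1, 2, 3]
def base : List Nat := []

end Cfsg.Agent.Spor.TiaA1
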